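import Cfsg.Agent.Lib.StSL.Rel

/-!
Coset enumeration over the stabiliser of a vector: the Steinberg relations define `SL_n` over a
finite field.
-/

set_option autoImplicit false

namespace CfsgLib.StSL

open Matrix
open scoped commutatorElement

theorem vecMul_mul' {K : Type*} [Field K] {n : ℕ} (g g' : SpecialLinearGroup (Fin n) K)
    (v : Fin n → K) : v ᵥ* (g * g').1 = v ᵥ* g.1 ᵥ* g'.1 := (vecMul_vecMul v g.1 g'.1).symm

theorem coe_mul' {K : Type*} [Field K] {n : ℕ} (g g' : SpecialLinearGroup (Fin n) K) :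
    (g * g').1 = g.1 * g'.1 := rfl

theorem one_mulVec' {K : Type*} [Field K] {n : ℕ} (v : Fin n → K) :
    (1 : SpecialLinearGroup (Fin n) K).1 *ᵥ v = v := one_mulVec v

theorem pi_induction {ι A : Type*} [Fintype ι] [DecidableEq ι] [AddCommMonoid A]
    {P : (ι → A) → Prop} (h0 : P 0) (hadd : ∀ a b, P a → P b → P (a + b))
    (hs : ∀ i a, P (Pi.single i a)) (c : ι → A) : P c := by
  rw [← Finset.univ_sum_single c]
  exact Finset.sum_induction _ P hadd h0 fun i _ => hs i _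

variable {K : Type*} [Field K] {m : ℕ} {Y : Type*} [Group Y]

/-- the data of the inductive step -/
structure Setup (K : Type*) [Field K] (m : ℕ) (Y : Type*) [Group Y] where
  x : Fin (m + 1) → Fin (m + 1) → K → Y
  rel : Rel x
  two_le : 2 ≤ m
  π : Y →* SpecialLinearGroup (Fin (m + 1)) K
  hπ : ∀ i j, i ≠ j → ∀ t, π (x i j t) = tv i j t
  ψ : SpecialLinearGroup (Fin m) K →* Y
  hψ : ∀ i j, i ≠ j → ∀ t, ψ (tv i j t) = x i.succ j.succ t

namespace Setup

variable (S : Setup K m Y)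

/-- the first index of the smaller group -/
def o : Fin m := ⟨0, by have := S.two_le; omega⟩
/-- the second index of the smaller group -/
def o' : Fin m := ⟨1, by have := S.two_le; omega⟩

theorem o_ne : S.o ≠ S.o' := by simp [o, o', Fin.ext_iff]

include S in
theorem nontriv : Nontrivial (Fin m) := ⟨S.o, S.o', S.o_ne⟩

theorem x_mem_range {i j : Fin m} (h : i ≠ j) (t : K) : S.x i.succ j.succ t ∈ S.ψ.range :=
  ⟨tv i j t, S.hψ i j h t⟩

/-- first column factor -/
def colF (j : Fin m) : Multiplicative K →* Y :=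
  MonoidHom.mk' (fun u => S.x j.succ 0 u.toAdd) fun a b =>
    (S.rel.add (Fin.succ_ne_zero j) _ _).symm

/-- first row factor -/
def rowF (j : Fin m) : Multiplicative K →* Y :=
  MonoidHom.mk' (fun u => S.x 0 j.succ u.toAdd) fun a b =>
    (S.rel.add (Fin.succ_ne_zero j).symm _ _).symm

theorem colF_comm : Pairwise fun i j => ∀ a b, Commute (S.colF i a) (S.colF j b) :=
  fun i j _ a b => S.rel.comm (Fin.succ_ne_zero i) (Fin.succ_ne_zero j) (Fin.succ_ne_zero i)
    (Fin.succ_ne_zero j).symm _ _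

theorem rowF_comm : Pairwise fun i j => ∀ a b, Commute (S.rowF i a) (S.rowF j b) :=
  fun i j _ a b => S.rel.comm (Fin.succ_ne_zero i).symm (Fin.succ_ne_zero j).symm
    (Fin.succ_ne_zero j).symm (Fin.succ_ne_zero i) _ _

/-- the first column -/
noncomputable def cC (c : Fin m → K) : Y :=
  MonoidHom.noncommPiCoprod S.colF S.colF_comm fun j => Multiplicative.ofAdd (c j)

/-- the first row -/
noncomputable def rR (c : Fin m → K) : Y :=
  MonoidHom.noncommPiCoprod S.rowF S.rowF_comm fun j => Multiplicative.ofAdd (c j)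

theorem cC_add (a b : Fin m → K) : S.cC (a + b) = S.cC a * S.cC b := by
  rw [cC, cC, cC, ← map_mul]; rfl

theorem rR_add (a b : Fin m → K) : S.rR (a + b) = S.rR a * S.rR b := by
  rw [rR, rR, rR, ← map_mul]; rfl

theorem cC_zero : S.cC 0 = 1 := map_one _

theorem rR_zero : S.rR 0 = 1 := map_one _

theorem cC_single (j : Fin m) (u : K) : S.cC (Pi.single j u) = S.x j.succ 0 u := by
  rw [cC, show (fun i => Multiplicative.ofAdd ((Pi.single j u : Fin m → K) i)) =
      Pi.mulSingle j (Multiplicative.ofAdd u) from ?_, MonoidHom.noncommPiCoprod_mulSingle]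
  · rfl
  · funext i
    by_cases e : i = j
    · subst e; simp
    · simp [e]

theorem rR_single (j : Fin m) (u : K) : S.rR (Pi.single j u) = S.x 0 j.succ u := by
  rw [rR, show (fun i => Multiplicative.ofAdd ((Pi.single j u : Fin m → K) i)) =
      Pi.mulSingle j (Multiplicative.ofAdd u) from ?_, MonoidHom.noncommPiCoprod_mulSingle]
  · rfl
  · funext i
    by_cases e : i = j
    · subst e; simp
    · simp [e]

theorem ψ_cC (g : SpecialLinearGroup (Fin m) K) :
    ∀ c, S.ψ g * S.cC c = S.cC (g.1 *ᵥ c) * S.ψ g := by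
  haveI := S.nontriv
  induction g using sl_induction with
  | htv i j h t =>
    refine pi_induction (by rw [mulVec_zero, S.cC_zero, mul_one, one_mul]) (fun a b ha hb => ?_) fun k s => ?_
    · rw [mulVec_add, S.cC_add, S.cC_add, ← mul_assoc, ha, mul_assoc, hb, ← mul_assoc]
    · rw [tv_mulVec h, S.cC_add, S.cC_single, S.cC_single, S.hψ i j h]
      by_cases e : j = k
      · subst e
        have h' : i.succ ≠ j.succ := by simpa using h
        rw [Pi.single_eq_same, S.rel.push h' (Fin.succ_ne_zero j) (Fin.succ_ne_zero i) t s,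
          (S.rel.comm (Fin.succ_ne_zero i) (Fin.succ_ne_zero j) (Fin.succ_ne_zero i)
            (Fin.succ_ne_zero j).symm (t * s) s).eq]
      · rw [Pi.single_eq_of_ne e, mul_zero, S.rel.zero (Fin.succ_ne_zero i), mul_one]
        exact (S.rel.comm (by simpa using h) (Fin.succ_ne_zero k) (Fin.succ_ne_zero i)
          (by simpa using e) t s).eq
  | hmul a b ha hb =>
    intro c
    rw [map_mul, mul_assoc, hb, ← mul_assoc, ha, mul_assoc, mul_mulVec']

theorem ψ_rR (g : SpecialLinearGroup (Fin m) K) :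
    ∀ r, S.ψ g * S.rR (r ᵥ* g.1) = S.rR r * S.ψ g := by
  haveI := S.nontriv
  induction g using sl_induction with
  | htv i j h t =>
    refine pi_induction (by rw [zero_vecMul, S.rR_zero, mul_one, one_mul]) (fun a b ha hb => ?_) fun k s => ?_
    · rw [add_vecMul, S.rR_add, S.rR_add, ← mul_assoc, ha, mul_assoc, hb, ← mul_assoc]
    · rw [vecMul_tv h, S.rR_add, S.rR_single, S.rR_single, S.hψ i j h]
      by_cases e : i = k
      · subst e
        have h' : i.succ ≠ j.succ := by simpa using h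
        have c := S.rel.comm h' (Fin.succ_ne_zero j).symm h' (Fin.succ_ne_zero j) t (s * t)
        rw [Pi.single_eq_same,
          S.rel.push (Fin.succ_ne_zero i).symm h' (Fin.succ_ne_zero j).symm s t,
          (S.rel.comm (Fin.succ_ne_zero i).symm (Fin.succ_ne_zero j).symm (Fin.succ_ne_zero j).symm
            (Fin.succ_ne_zero i) s (s * t)).eq, ← mul_assoc, c.eq, mul_assoc]
      · rw [Pi.single_eq_of_ne e, zero_mul, S.rel.zero (Fin.succ_ne_zero j).symm, mul_one]
        exact (S.rel.comm (Fin.succ_ne_zero k).symm (by simpa using h) (Fin.succ_ne_zero j).symm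
          (by simpa using fun h' => e h'.symm) s t).eq.symm
  | hmul a b ha hb =>
    intro r
    rw [map_mul, vecMul_mul', mul_assoc, hb, ← mul_assoc, ha, mul_assoc]

/-- the stabiliser of the first basis vector -/
def InH (z : Y) : Prop := ∃ r g, z = S.rR r * S.ψ g

theorem inH_ψ (g : SpecialLinearGroup (Fin m) K) : S.InH (S.ψ g) :=
  ⟨0, g, by rw [S.rR_zero, one_mul]⟩

theorem inH_rR (r : Fin m → K) : S.InH (S.rR r) := ⟨r, 1, by rw [map_one, mul_one]⟩

theorem inH_range {z : Y} (hz : z ∈ S.ψ.range) : S.InH z := by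
  obtain ⟨g, rfl⟩ := hz; exact S.inH_ψ g

theorem inH_mul {a b : Y} (ha : S.InH a) (hb : S.InH b) : S.InH (a * b) := by
  obtain ⟨r, g, rfl⟩ := ha
  obtain ⟨r', g', rfl⟩ := hb
  have h := S.ψ_rR g⁻¹ r'
  refine ⟨r + r' ᵥ* (g⁻¹).1, g * g', ?_⟩
  rw [S.rR_add, map_mul]
  calc S.rR r * S.ψ g * (S.rR r' * S.ψ g')
      = S.rR r * (S.ψ g * (S.rR r' * S.ψ g⁻¹)) * (S.ψ g * S.ψ g') := by
        rw [map_inv]; group
    _ = S.rR r * (S.ψ g * (S.ψ g⁻¹ * S.rR (r' ᵥ* (g⁻¹).1))) * (S.ψ g * S.ψ g') := by rw [h]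
    _ = _ := by rw [map_inv]; group

/-- the pairs of indices in use -/
def a : Fin (m + 1) := S.o.succ
/-- the third index -/
def b : Fin (m + 1) := S.o'.succ

theorem za : (0 : Fin (m + 1)) ≠ S.a := (Fin.succ_ne_zero _).symm
theorem zb : (0 : Fin (m + 1)) ≠ S.b := (Fin.succ_ne_zero _).symm
theorem ab : S.a ≠ S.b := fun h => S.o_ne (Fin.succ_injective _ h)

/-- the representative exchanging the first two vectors -/
def W : Y := StSL.w S.x 0 S.a (-1)

/-- the torus element -/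
def D (c : K) : Y := StSL.w S.x 0 S.a c * S.W

theorem W_row (j : Fin (m + 1)) (h0 : (0 : Fin (m + 1)) ≠ j) (ha : S.a ≠ j) (u : K) :
    S.x S.a j u * S.W = S.W * S.x 0 j u := by
  rw [W, S.rel.w_pr S.za h0 ha (neg_ne_zero.2 one_ne_zero)]
  congr 2
  field_simp

theorem W_col (j : Fin (m + 1)) (h0 : (0 : Fin (m + 1)) ≠ j) (ha : S.a ≠ j) (u : K) :
    S.x j S.a u * S.W = S.W * S.x j 0 u := by
  rw [W, S.rel.w_rp S.za h0 ha (neg_ne_zero.2 one_ne_zero)]
  congr 2
  simp

/-- monomial pairs normalise the smaller group -/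
theorem ww_norm {s t : K} (hs : s ≠ 0) (ht : t ≠ 0) (g : SpecialLinearGroup (Fin m) K) :
    ∃ g', StSL.w S.x 0 S.a s * StSL.w S.x 0 S.a t * S.ψ g =
      S.ψ g' * (StSL.w S.x 0 S.a s * StSL.w S.x 0 S.a t) := by
  haveI := S.nontriv
  induction g using sl_induction with
  | htv i j h u =>
    rw [S.hψ i j h]
    have hi0 : (0 : Fin (m + 1)) ≠ i.succ := (Fin.succ_ne_zero _).symm
    have hj0 : (0 : Fin (m + 1)) ≠ j.succ := (Fin.succ_ne_zero _).symm
    have hij : i.succ ≠ j.succ := by simpa using h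
    by_cases ei : i = S.o
    · subst ei
      have haj : S.a ≠ j.succ := hij
      refine ⟨tv S.o j (-(t * u / s)), ?_⟩
      rw [S.hψ _ _ h]
      show _ * S.x S.a j.succ u = S.x S.a j.succ _ * _
      rw [mul_assoc, S.rel.w_qr S.za hj0 haj ht, ← mul_assoc, S.rel.w_pr S.za hj0 haj hs,
        mul_assoc]
    · have hai : S.a ≠ i.succ := fun e => ei (Fin.succ_injective _ e).symm
      by_cases ej : j = S.o
      · subst ej
        refine ⟨tv i S.o (-(s * (u / t))), ?_⟩
        rw [S.hψ _ _ h]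
        show _ * S.x i.succ S.a u = S.x i.succ S.a _ * _
        rw [mul_assoc, S.rel.w_rq S.za hi0 hai ht, ← mul_assoc, S.rel.w_rp S.za hi0 hai hs,
          mul_assoc]
      · have haj : S.a ≠ j.succ := fun e => ej (Fin.succ_injective _ e).symm
        refine ⟨tv i j u, ?_⟩
        rw [S.hψ _ _ h]
        have c1 : ∀ v, Commute (S.x 0 S.a v) (S.x i.succ j.succ u) := fun v =>
          S.rel.comm S.za hij hj0 hai v u
        have c2 : ∀ v, Commute (S.x S.a 0 v) (S.x i.succ j.succ u) := fun v =>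
          S.rel.comm S.za.symm hij haj hi0 v u
        have cw : ∀ v, Commute (StSL.w S.x 0 S.a v) (S.x i.succ j.succ u) := fun v =>
          ((c1 _).mul_left (c2 _)).mul_left (c1 _)
        exact ((cw s).mul_left (cw t)).eq
  | hmul p q hp hq =>
    obtain ⟨p', hp⟩ := hp
    obtain ⟨q', hq⟩ := hq
    exact ⟨p' * q', by rw [map_mul, map_mul, ← mul_assoc, hp, mul_assoc, hq, ← mul_assoc]⟩

theorem D_left {c : K} (hc : c ≠ 0) (g : SpecialLinearGroup (Fin m) K) :
    ∃ g', S.D c * S.ψ g = S.ψ g' * S.D c := S.ww_norm hc (neg_ne_zero.2 one_ne_zero) g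

theorem D_right {c : K} (hc : c ≠ 0) (g : SpecialLinearGroup (Fin m) K) :
    ∃ g', S.ψ g * S.D c = S.D c * S.ψ g' := by
  obtain ⟨g', h⟩ := S.ww_norm one_ne_zero (neg_ne_zero.2 hc) g
  refine ⟨g', ?_⟩
  have e : StSL.w S.x 0 S.a 1 * StSL.w S.x 0 S.a (-c) = (S.D c)⁻¹ := by
    rw [D, W, _root_.mul_inv_rev, S.rel.w_inv S.za, S.rel.w_inv S.za, neg_neg]
  rw [e] at h
  rw [← inv_mul_eq_iff_eq_mul, ← mul_assoc, h]
  group

theorem D_one : S.D 1 = 1 := by
  rw [D, W, ← S.rel.w_inv S.za, mul_inv_cancel]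

theorem W_torus {c : K} (hc : c ≠ 0) : ∃ g k, S.W * S.D c = S.ψ g * S.W * S.ψ k := by
  have hm1 : (-1 : K) ≠ 0 := neg_ne_zero.2 one_ne_zero
  have e1 : ∀ t, StSL.w S.x S.a S.b t * S.W = S.W * StSL.w S.x 0 S.b t := fun t => by
    simp only [StSL.w, mul_assoc, S.W_row S.b S.zb S.ab]
    simp only [← mul_assoc]
    rw [mul_assoc (S.x S.a S.b t) _ S.W, S.W_col S.b S.zb S.ab, ← mul_assoc, S.W_row S.b S.zb S.ab,
      mul_assoc S.W]
  have ω1 : ∀ u, StSL.w S.x S.b S.a 1 * S.x 0 S.a u = S.x 0 S.b u * StSL.w S.x S.b S.a 1 := fun u => by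
    rw [S.rel.w_rq S.ab.symm S.zb.symm S.za.symm one_ne_zero, div_one]
  have ω2 : ∀ u, StSL.w S.x S.b S.a 1 * S.x S.a 0 u = S.x S.b 0 u * StSL.w S.x S.b S.a 1 := fun u => by
    rw [S.rel.w_qr S.ab.symm S.zb.symm S.za.symm one_ne_zero, one_mul]
  have ω3 : ∀ t, StSL.w S.x S.b S.a 1 * StSL.w S.x 0 S.a t =
      StSL.w S.x 0 S.b t * StSL.w S.x S.b S.a 1 := fun t => by
    have h2 : ∀ p q r, StSL.w S.x S.b S.a 1 * (S.x 0 S.a p * S.x S.a 0 q * S.x 0 S.a r) =
        S.x 0 S.b p * S.x S.b 0 q * S.x 0 S.b r * StSL.w S.x S.b S.a 1 := fun p q r => by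
      rw [← mul_assoc, ← mul_assoc, ω1, mul_assoc (S.x 0 S.b p), ω2, ← mul_assoc,
        mul_assoc (S.x 0 S.b p * S.x S.b 0 q), ω1, ← mul_assoc]
    exact h2 _ _ _
  let ω : SpecialLinearGroup (Fin m) K := StSL.w tv S.o' S.o 1
  let η : SpecialLinearGroup (Fin m) K := StSL.w tv S.o S.o' c * StSL.w tv S.o S.o' (-1)
  have hω : S.ψ ω = StSL.w S.x S.b S.a 1 := by
    simp only [ω, StSL.w, map_mul, S.hψ _ _ S.o_ne.symm, S.hψ _ _ S.o_ne]; rfl
  have hη : S.ψ η = StSL.w S.x S.a S.b c * StSL.w S.x S.a S.b (-1) := by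
    simp only [η, StSL.w, map_mul, S.hψ _ _ S.o_ne.symm, S.hψ _ _ S.o_ne]; rfl
  set E := StSL.w S.x 0 S.b c * StSL.w S.x 0 S.b (-1) with hE
  have hWE : S.ψ η * S.W = S.W * E := by
    rw [hη, mul_assoc, e1, ← mul_assoc, e1, mul_assoc]
  have hDE : S.ψ ω * S.D c = E * S.ψ ω := by
    rw [hω, D, W, ← mul_assoc, ω3, mul_assoc, ω3, ← mul_assoc]
  obtain ⟨ω', hω'⟩ := S.D_right hc ω
  refine ⟨η, (ω' * ω⁻¹)⁻¹, ?_⟩
  have : E = S.D c * S.ψ (ω' * ω⁻¹) := by
    rw [map_mul, ← mul_assoc, ← hω', hDE, map_inv, mul_inv_cancel_right]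
  rw [hWE, this, map_inv]
  group

/-- the cells -/
def IsCell (z : Y) : Prop :=
  (∃ c b h, b ≠ 0 ∧ S.InH h ∧ z = S.cC c * S.D b * h) ∨ (∃ g h, S.InH h ∧ z = S.ψ g * S.W * h)

theorem isCell_one : S.IsCell 1 :=
  Or.inl ⟨0, 1, 1, one_ne_zero, ⟨0, 1, by rw [S.rR_zero, map_one, one_mul]⟩,
    by rw [S.cC_zero, S.D_one, one_mul, one_mul]⟩

theorem cell_mul_right {z h : Y} (hz : S.IsCell z) (hh : S.InH h) : S.IsCell (z * h) := by
  rcases hz with ⟨c, b, k, hb, hk, rfl⟩ | ⟨g, k, hk, rfl⟩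
  · exact Or.inl ⟨c, b, k * h, hb, S.inH_mul hk hh, by rw [mul_assoc]⟩
  · exact Or.inr ⟨g, k * h, S.inH_mul hk hh, by rw [mul_assoc]⟩

theorem cell_ψ {z : Y} (g : SpecialLinearGroup (Fin m) K) (hz : S.IsCell z) :
    S.IsCell (S.ψ g * z) := by
  rcases hz with ⟨c, b, h, hb, hh, rfl⟩ | ⟨k, h, hh, rfl⟩
  · obtain ⟨g', hg⟩ := S.D_right hb g
    exact Or.inl ⟨g.1 *ᵥ c, b, S.ψ g' * h, hb, S.inH_mul (S.inH_ψ g') hh, by
      rw [← mul_assoc, ← mul_assoc, S.ψ_cC, mul_assoc (S.cC _) (S.ψ g), hg]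
      simp only [mul_assoc]⟩
  · exact Or.inr ⟨g * k, h, hh, by rw [map_mul]; simp only [mul_assoc]⟩

theorem col_W (c : Fin m → K) (hc : c S.o = 0) : ∃ g, S.cC c * S.W = S.W * S.ψ g := by
  suffices h : ∀ c : Fin m → K, ∃ g, S.cC (c - Pi.single S.o (c S.o)) * S.W = S.W * S.ψ g by
    simpa [hc] using h c
  refine pi_induction ⟨1, by simp [S.cC_zero]⟩ (fun p q hp hq => ?_) fun j u => ?_
  · obtain ⟨g, hg⟩ := hp
    obtain ⟨g', hg'⟩ := hq
    refine ⟨g * g', ?_⟩
    rw [Pi.add_apply, Pi.single_add, add_sub_add_comm, S.cC_add, mul_assoc, hg', ← mul_assoc, hg,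
      map_mul, mul_assoc]
  · by_cases e : j = S.o
    · subst e
      exact ⟨1, by simp [S.cC_zero]⟩
    · have e0 : (Pi.single j u : Fin m → K) S.o = 0 := by simp [Ne.symm e]
      rw [e0, Pi.single_zero, sub_zero, S.cC_single]
      refine ⟨tv j S.o (-u), ?_⟩
      rw [S.hψ _ _ e, W]
      show _ = _ * S.x j.succ S.a _
      rw [S.rel.w_rq S.za (Fin.succ_ne_zero j).symm
        (fun h => e (Fin.succ_injective _ h).symm) (neg_ne_zero.2 one_ne_zero)]
      · congr 2
        simp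

theorem row_W (c : Fin m → K) (hc : c S.o = 0) : ∃ g, S.rR c * S.W = S.W * S.ψ g := by
  suffices h : ∀ c : Fin m → K, ∃ g, S.rR (c - Pi.single S.o (c S.o)) * S.W = S.W * S.ψ g by
    simpa [hc] using h c
  refine pi_induction ⟨1, by simp [S.rR_zero]⟩ (fun p q hp hq => ?_) fun j u => ?_
  · obtain ⟨g, hg⟩ := hp
    obtain ⟨g', hg'⟩ := hq
    refine ⟨g * g', ?_⟩
    rw [Pi.add_apply, Pi.single_add, add_sub_add_comm, S.rR_add, mul_assoc, hg', ← mul_assoc, hg,
      map_mul, mul_assoc]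
  · by_cases e : j = S.o
    · subst e
      exact ⟨1, by simp [S.rR_zero]⟩
    · have e0 : (Pi.single j u : Fin m → K) S.o = 0 := by simp [Ne.symm e]
      rw [e0, Pi.single_zero, sub_zero, S.rR_single]
      refine ⟨tv S.o j (-u), ?_⟩
      rw [S.hψ _ _ (Ne.symm e), W]
      show _ = _ * S.x S.a j.succ _
      rw [S.rel.w_qr S.za (Fin.succ_ne_zero j).symm
        (fun h => e (Fin.succ_injective _ h).symm) (neg_ne_zero.2 one_ne_zero)]
      congr 2
      simp

theorem row_past (t : K) (c : Fin m → K) (hc : c S.o = 0) :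
    ∃ c' g, c' S.o = 0 ∧ S.x 0 S.a t * S.cC c = S.ψ g * (S.cC c' * S.x 0 S.a t) := by
  suffices h : ∀ c : Fin m → K, ∃ c' g, c' S.o = 0 ∧
      (∀ v : Fin m → K, (g : SpecialLinearGroup (Fin m) K).1.mulVec v S.o = v S.o) ∧
      S.x 0 S.a t * S.cC (c - Pi.single S.o (c S.o)) = S.cC c' * S.ψ g * S.x 0 S.a t by
    obtain ⟨c', g, h0, hg, e⟩ := h c
    rw [hc, Pi.single_zero, sub_zero] at e
    refine ⟨(g⁻¹).1 *ᵥ c', g, ?_, ?_⟩
    · have := hg ((g⁻¹).1 *ᵥ c')
      rw [← mul_mulVec', mul_inv_cancel, one_mulVec', h0] at this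
      exact this.symm
    · rw [e, ← mul_assoc, S.ψ_cC, ← mul_mulVec', mul_inv_cancel, one_mulVec']
  refine pi_induction ⟨0, 1, rfl, by simp, by simp [S.cC_zero]⟩ (fun p q hp hq => ?_) fun j u => ?_
  · obtain ⟨c₁, g₁, h₁, k₁, e₁⟩ := hp
    obtain ⟨c₂, g₂, h₂, k₂, e₂⟩ := hq
    refine ⟨c₁ + g₁.1 *ᵥ c₂, g₁ * g₂, by simp [h₁, k₁, h₂], fun v => by
      rw [mul_mulVec', k₁, k₂], ?_⟩
    rw [Pi.add_apply, Pi.single_add, add_sub_add_comm, S.cC_add, ← mul_assoc, e₁, mul_assoc, e₂,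
      S.cC_add, map_mul]
    simp only [← mul_assoc]
    rw [mul_assoc (S.cC c₁) (S.ψ g₁), S.ψ_cC, ← mul_assoc (S.cC c₁)]
  · by_cases e : j = S.o
    · subst e
      exact ⟨0, 1, rfl, by simp, by simp [S.cC_zero]⟩
    · have e0 : (Pi.single j u : Fin m → K) S.o = 0 := by simp [Ne.symm e]
      rw [e0, Pi.single_zero, sub_zero, S.cC_single]
      refine ⟨Pi.single j u, tv j S.o (-(u * t)), e0, fun v => by simp [tv_mulVec e, Ne.symm e], ?_⟩
      have h' : j.succ ≠ S.a := fun h => e (Fin.succ_injective _ h)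
      rw [S.hψ _ _ e, S.cC_single]
      show _ = _ * S.x j.succ S.a _ * _
      have hx : S.x 0 S.a t * S.x j.succ 0 u =
          S.x j.succ S.a (-(u * t)) * S.x j.succ 0 u * S.x 0 S.a t :=
        S.rel.pull (Fin.succ_ne_zero j) S.za h' u t
      rw [hx, (S.rel.comm h' (Fin.succ_ne_zero j) (Fin.succ_ne_zero j) h'.symm (-(u * t)) u).eq]

/-- the monomial and diagonal elements of `SL₂` -/
def W2 : SpecialLinearGroup (Fin 2) K := StSL.w tv 0 1 (-1)

theorem w2_coe {t : K} (ht : t ≠ 0) :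
    (StSL.w tv 0 1 t : SpecialLinearGroup (Fin 2) K).1 =
      !![0, t; -t⁻¹, 0] := by
  simp only [StSL.w, coe_mul', tv_coe (K := K) (show (0 : Fin 2) ≠ 1 by decide),
    tv_coe (K := K) (show (1 : Fin 2) ≠ 0 by decide)]
  ext i j
  fin_cases i <;> fin_cases j <;>
    simp [Matrix.transvection, Matrix.single_apply, Matrix.mul_apply, Fin.sum_univ_two, ht]

theorem sl2_decomp (M : SpecialLinearGroup (Fin 2) K) :
    (∃ u b r, b ≠ 0 ∧ M = tv 1 0 u * (StSL.w tv 0 1 b * StSL.w tv 0 1 (-1)) * tv 0 1 r) ∨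
      ∃ b r, b ≠ 0 ∧ M = StSL.w tv 0 1 (-1) * (StSL.w tv 0 1 b * StSL.w tv 0 1 (-1)) * tv 0 1 r := by
  have hm1 : (-1 : K) ≠ 0 := neg_ne_zero.2 one_ne_zero
  have hd : M.1 0 0 * M.1 1 1 - M.1 0 1 * M.1 1 0 = 1 := by
    rw [← Matrix.det_fin_two]; exact M.2
  by_cases h : M.1 0 0 = 0
  · have h1 : M.1 1 0 ≠ 0 := fun e => by rw [h, e] at hd; simp at hd
    refine Or.inr ⟨M.1 1 0, M.1 1 1 / M.1 1 0, h1, Subtype.ext ?_⟩
    simp only [coe_mul', w2_coe h1, w2_coe hm1,
      tv_coe (K := K) (show (0 : Fin 2) ≠ 1 by decide)]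
    ext i j
    fin_cases i <;> fin_cases j <;>
      simp [Matrix.transvection, Matrix.single_apply, Matrix.mul_apply, Fin.sum_univ_two, h]
    · rw [h] at hd; field_simp; linear_combination -hd
    · field_simp
  · refine Or.inl ⟨M.1 1 0 / M.1 0 0, M.1 0 0, M.1 0 1 / M.1 0 0, h, Subtype.ext ?_⟩
    simp only [coe_mul', w2_coe h, w2_coe hm1,
      tv_coe (K := K) (show (0 : Fin 2) ≠ 1 by decide), tv_coe (K := K) (show (1 : Fin 2) ≠ 0 by decide)]
    ext i j
    fin_cases i <;> fin_cases j <;>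
      simp [Matrix.transvection, Matrix.single_apply, Matrix.mul_apply, Fin.sum_univ_two]
    · field_simp
    · field_simp
    · field_simp; linear_combination hd

theorem cell_pair [Finite K] : ∃ φ : SpecialLinearGroup (Fin 2) K →* Y,
    (∀ t, φ (tv 0 1 t) = S.x 0 S.a t) ∧ (∀ t, φ (tv 1 0 t) = S.x S.a 0 t) ∧
    (∀ t, φ (StSL.w tv 0 1 t) = StSL.w S.x 0 S.a t) ∧
    ∀ c M, c S.o = 0 → S.IsCell (S.cC c * φ M) := by
  obtain ⟨φ, h1, h2⟩ := S.rel.exists_sl2 (n := m + 1) (by have := S.two_le; omega) S.za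
  have hw : ∀ t, φ (StSL.w tv 0 1 t) = StSL.w S.x 0 S.a t := fun t => by
    simp only [StSL.w, map_mul, h1, h2]
  refine ⟨φ, h1, h2, hw, fun c M hc => ?_⟩
  have hH : ∀ r, S.InH (S.x 0 S.a r) := fun r => by
    have := S.inH_rR (Pi.single S.o r)
    rwa [S.rR_single] at this
  rcases sl2_decomp M with ⟨u, b, r, hb, rfl⟩ | ⟨b, r, hb, rfl⟩
  · refine Or.inl ⟨c + Pi.single S.o u, b, S.x 0 S.a r, hb, hH r, ?_⟩
    simp only [map_mul, h1, h2, hw, S.cC_add, S.cC_single, D, W, mul_assoc]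
    rfl
  · obtain ⟨g, hg⟩ := S.col_W c hc
    obtain ⟨g', hg'⟩ := S.D_right hb g
    obtain ⟨η, k, hk⟩ := S.W_torus hb
    refine Or.inr ⟨η, S.ψ k * (S.ψ g' * S.x 0 S.a r),
      S.inH_mul (S.inH_ψ k) (S.inH_mul (S.inH_ψ g') (hH r)), ?_⟩
    simp only [map_mul, h1, hw]
    show S.cC c * (S.W * S.D b * S.x 0 S.a r) = _
    simp only [← mul_assoc]
    rw [hg, mul_assoc S.W, hg', ← mul_assoc, hk]

theorem cell_row [Finite K] (t : K) {z : Y} (hz : S.IsCell z) : S.IsCell (S.x 0 S.a t * z) := by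
  obtain ⟨φ, h1, h2, hw, hcell⟩ := S.cell_pair
  rcases hz with ⟨c, b, h, hb, hh, rfl⟩ | ⟨g, h, hh, rfl⟩
  · set c₁ := c - Pi.single S.o (c S.o) with hc₁
    obtain ⟨c', k, hc', e⟩ := S.row_past t c₁ (by simp [c₁])
    have hc : S.cC c = S.cC c₁ * S.x S.a 0 (c S.o) := by
      rw [show S.x S.a 0 (c S.o) = S.cC (Pi.single S.o (c S.o)) from (S.cC_single _ _).symm,
        ← S.cC_add, hc₁, sub_add_cancel]
    have hφ : φ (tv 0 1 t * tv 1 0 (c S.o) * (StSL.w tv 0 1 b * StSL.w tv 0 1 (-1))) =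
        S.x 0 S.a t * S.x S.a 0 (c S.o) * S.D b := by
      simp only [map_mul, h1, h2, hw]; rfl
    have := S.cell_ψ k (S.cell_mul_right (hcell c'
      (tv 0 1 t * tv 1 0 (c S.o) * (StSL.w tv 0 1 b * StSL.w tv 0 1 (-1))) hc') hh)
    rw [hφ] at this
    convert this using 1
    rw [hc]
    simp only [← mul_assoc]
    rw [e]
    simp only [← mul_assoc]
  · set r := Pi.single S.o t ᵥ* g.1 with hr
    obtain ⟨k, hk⟩ := S.row_W (r - Pi.single S.o (r S.o)) (by simp)
    have h0 : S.IsCell (S.x 0 S.a (r S.o) * S.W) := by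
      have := hcell 0 (tv 0 1 (r S.o) * StSL.w tv 0 1 (-1)) rfl
      simpa [S.cC_zero, map_mul, h1, hw, W] using this
    have := S.cell_ψ g (S.cell_mul_right h0 (S.inH_mul (S.inH_ψ k) hh))
    convert this using 1
    have e : S.x 0 S.a t * S.ψ g = S.ψ g * S.rR r := by
      rw [S.ψ_rR, S.rR_single]; rfl
    have hsplit : S.rR r = S.x 0 S.a (r S.o) * S.rR (r - Pi.single S.o (r S.o)) := by
      rw [show S.x 0 S.a (r S.o) = S.rR (Pi.single S.o (r S.o)) from (S.rR_single _ _).symm,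
        ← S.rR_add, add_sub_cancel]
    calc S.x 0 S.a t * (S.ψ g * S.W * h)
        = S.ψ g * (S.x 0 S.a (r S.o) * (S.rR (r - Pi.single S.o (r S.o)) * S.W)) * h := by
          rw [← mul_assoc, ← mul_assoc, e, hsplit]; simp only [mul_assoc]
      _ = _ := by rw [hk]; simp only [mul_assoc]

theorem cell_col [Finite K] (t : K) {z : Y} (hz : S.IsCell z) : S.IsCell (S.x S.a 0 t * z) := by
  obtain ⟨φ, h1, h2, hw, -⟩ := S.cell_pair
  rcases hz with ⟨c, b, h, hb, hh, rfl⟩ | ⟨g, h, hh, rfl⟩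
  · refine Or.inl ⟨Pi.single S.o t + c, b, h, hb, hh, ?_⟩
    rw [S.cC_add, S.cC_single]
    simp only [mul_assoc]
    rfl
  · set c := (g⁻¹).1 *ᵥ Pi.single S.o t with hc
    obtain ⟨k, hk⟩ := S.col_W (c - Pi.single S.o (c S.o)) (by simp)
    have hu : S.x S.a 0 (c S.o) * S.W = S.W * S.x 0 S.a (-(c S.o)) := by
      have e : (tv 1 0 (c S.o) : SpecialLinearGroup (Fin 2) K) * StSL.w tv 0 1 (-1) = StSL.w tv 0 1 (-1) * tv 0 1 (-(c S.o)) := by
        refine Subtype.ext ?_
        simp only [coe_mul', w2_coe (neg_ne_zero.2 (one_ne_zero (α := K))),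
          tv_coe (K := K) (show (0 : Fin 2) ≠ 1 by decide), tv_coe (K := K) (show (1 : Fin 2) ≠ 0 by decide)]
        ext i j
        fin_cases i <;> fin_cases j <;>
          simp [Matrix.transvection, Matrix.single_apply, Matrix.mul_apply, Fin.sum_univ_two]
      simpa [map_mul, h1, h2, hw, W] using congrArg φ e
    have e : S.x S.a 0 t * S.ψ g = S.ψ g * S.cC c := by
      rw [S.ψ_cC, hc, ← mul_mulVec', mul_inv_cancel, one_mulVec',
        S.cC_single]; rfl
    have hsplit : S.cC c = S.cC (c - Pi.single S.o (c S.o)) * S.x S.a 0 (c S.o) := by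
      rw [show S.x S.a 0 (c S.o) = S.cC (Pi.single S.o (c S.o)) from (S.cC_single _ _).symm,
        ← S.cC_add, sub_add_cancel]
    refine Or.inr ⟨g, S.ψ k * S.x 0 S.a (-(c S.o)) * h, S.inH_mul (S.inH_mul (S.inH_ψ k) ?_) hh, ?_⟩
    · have := S.inH_rR (Pi.single S.o (-(c S.o)))
      rwa [S.rR_single] at this
    · calc S.x S.a 0 t * (S.ψ g * S.W * h)
          = S.ψ g * (S.cC (c - Pi.single S.o (c S.o)) * (S.x S.a 0 (c S.o) * S.W)) * h := by
            rw [← mul_assoc, ← mul_assoc, e, hsplit]; simp only [mul_assoc]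
        _ = _ := by rw [hu, ← mul_assoc (S.cC _), hk]; simp only [mul_assoc]

/-- the elements preserving the union of the cells -/
def cellStab : Subgroup Y where
  carrier := {g | ∀ z, S.IsCell (g * z) ↔ S.IsCell z}
  one_mem' := fun z => by rw [one_mul]
  mul_mem' := fun {a b} ha hb z => by rw [mul_assoc, ha, hb]
  inv_mem' := fun {a} ha z => by rw [← ha, mul_inv_cancel_left]

theorem ψ_mem_stab (g : SpecialLinearGroup (Fin m) K) : S.ψ g ∈ S.cellStab := fun z =>
  ⟨fun h => by simpa [← mul_assoc] using S.cell_ψ g⁻¹ h, S.cell_ψ g⟩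

theorem x_mem_stab [Finite K] {i j : Fin (m + 1)} (h : i ≠ j) (t : K) :
    S.x i j t ∈ S.cellStab := by
  have hrow : ∀ t, S.x 0 S.a t ∈ S.cellStab := fun t =>
    show ∀ z, S.IsCell (S.x 0 S.a t * z) ↔ S.IsCell z from fun z =>
    ⟨fun hz => by simpa [← mul_assoc, S.rel.add S.za, S.rel.zero S.za] using S.cell_row (-t) hz,
      S.cell_row t⟩
  have hcol : ∀ t, S.x S.a 0 t ∈ S.cellStab := fun t =>
    show ∀ z, S.IsCell (S.x S.a 0 t * z) ↔ S.IsCell z from fun z =>
    ⟨fun hz => by simpa [← mul_assoc, S.rel.add S.za.symm, S.rel.zero S.za.symm] using S.cell_col (-t) hz,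
      S.cell_col t⟩
  have hin : ∀ {i j : Fin m}, i ≠ j → ∀ t, S.x i.succ j.succ t ∈ S.cellStab := fun h t =>
    S.hψ _ _ h t ▸ S.ψ_mem_stab _
  have hcomm : ∀ {p q : Y}, p ∈ S.cellStab → q ∈ S.cellStab → ⁅p, q⁆ ∈ S.cellStab := by
    intro p q hp hq
    rw [commutatorElement_def]
    exact mul_mem (mul_mem (mul_mem hp hq) (inv_mem hp)) (inv_mem hq)
  induction i using Fin.cases with
  | zero =>
    induction j using Fin.cases with
    | zero => exact absurd rfl h
    | succ j =>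
      by_cases e : S.o = j
      · subst e; exact hrow t
      · rw [← mul_one t, ← S.rel.prod S.za (fun h' => e (Fin.succ_injective _ h')) h t 1]
        exact hcomm (hrow t) (hin e 1)
  | succ i =>
    induction j using Fin.cases with
    | zero =>
      by_cases e : i = S.o
      · subst e; exact hcol t
      · rw [← mul_one t, ← S.rel.prod (fun h' => e (Fin.succ_injective _ h')) S.za.symm h t 1]
        exact hcomm (hin e t) (hcol 1)
    | succ j => exact hin (fun e => h (congrArg Fin.succ e)) t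

theorem π_ψ (g : SpecialLinearGroup (Fin m) K) : ∀ v : Fin (m + 1) → K,
    (S.π (S.ψ g)).1 *ᵥ v = Fin.cons (v 0) (g.1 *ᵥ Fin.tail v) := by
  haveI := S.nontriv
  induction g using sl_induction with
  | htv i j h t =>
    intro v
    have h' : i.succ ≠ j.succ := by simpa using h
    rw [S.hψ i j h, S.hπ _ _ h', tv_mulVec h', tv_mulVec h]
    funext k
    induction k using Fin.cases with
    | zero => simp [(Fin.succ_ne_zero i).symm]
    | succ k => by_cases e : k = i <;> simp [Fin.tail, e]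
  | hmul p q hp hq =>
    intro v
    rw [map_mul, map_mul, mul_mulVec', hq, hp, Fin.cons_zero, Fin.tail_cons, mul_mulVec']

theorem π_cC : ∀ (c : Fin m → K) (v : Fin (m + 1) → K),
    (S.π (S.cC c)).1 *ᵥ v = v + Fin.cons 0 (v 0 • c) := by
  refine pi_induction (fun v => ?_) (fun p q hp hq v => ?_) fun j u v => ?_
  · rw [S.cC_zero, map_one, one_mulVec']
    funext k; induction k using Fin.cases <;> simp
  · rw [S.cC_add, map_mul, mul_mulVec', hq, hp]
    funext k
    induction k using Fin.cases <;> simp [mul_add]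
    ring
  · rw [S.cC_single, S.hπ _ _ (Fin.succ_ne_zero j), tv_mulVec (Fin.succ_ne_zero j)]
    funext k
    induction k using Fin.cases with
    | zero => simp [(Fin.succ_ne_zero j).symm]
    | succ k => by_cases e : k = j <;> simp [e, mul_comm]

theorem π_rR : ∀ (r : Fin m → K) (v : Fin (m + 1) → K),
    (S.π (S.rR r)).1 *ᵥ v = v + Pi.single 0 (r ⬝ᵥ Fin.tail v) := by
  refine pi_induction (fun v => ?_) (fun p q hp hq v => ?_) fun j u v => ?_
  · rw [S.rR_zero, map_one, one_mulVec']; simp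
  · rw [S.rR_add, map_mul, mul_mulVec', hq, hp, add_dotProduct, Pi.single_add]
    have : Fin.tail (v + Pi.single 0 (q ⬝ᵥ Fin.tail v)) = Fin.tail v := by
      funext k; simp [Fin.tail]
    rw [this]; abel
  · rw [S.rR_single, S.hπ _ _ (Fin.succ_ne_zero j).symm, tv_mulVec (Fin.succ_ne_zero j).symm]
    simp [Fin.tail]

theorem π_w {t : K} (ht : t ≠ 0) :
    (S.π (StSL.w S.x 0 S.a t)).1 *ᵥ Pi.single 0 (1 : K) = Pi.single S.a (-t⁻¹) ∧
      ∀ u, (S.π (StSL.w S.x 0 S.a t)).1 *ᵥ Pi.single S.a u = Pi.single 0 (t * u) := by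
  simp only [StSL.w, map_mul, S.hπ _ _ S.za, S.hπ _ _ S.za.symm, mul_mulVec', tv_mulVec S.za,
    tv_mulVec S.za.symm]
  refine ⟨?_, fun u => ?_⟩
  · funext k
    by_cases e : k = 0
    · subst e; simp [S.za, S.za.symm, ht]
    · by_cases e' : k = S.a
      · subst e'; simp [e, S.za]
      · simp [e, e', S.za, S.za.symm]
  · funext k
    by_cases e : k = 0
    · subst e; simp [S.za, S.za.symm, ht]
    · by_cases e' : k = S.a
      · subst e'; simp [e, S.za, ht]
      · simp [e, e', S.za, S.za.symm]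

theorem ker_trivial [Finite K] {z : Y}
    (hz : z ∈ Subgroup.closure {y | ∃ i j t, i ≠ j ∧ S.x i j t = y}) (h1 : S.π z = 1) : z = 1 := by
  have hcell : S.IsCell z := by
    have : z ∈ S.cellStab := (Subgroup.closure_le _).2
      (by rintro _ ⟨i, j, t, h, rfl⟩; exact S.x_mem_stab h t) hz
    simpa using (this 1).2 S.isCell_one
  have hfix : ∀ v : Fin (m + 1) → K, (S.π z).1 *ᵥ v = v := fun v => by
    rw [h1, one_mulVec']
  have hH : ∀ {h : Y}, S.InH h → (S.π h).1 *ᵥ Pi.single 0 (1 : K) = Pi.single 0 1 := by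
    rintro h ⟨r, g, rfl⟩
    have ht : Fin.tail (Pi.single 0 (1 : K) : Fin (m + 1) → K) = 0 := by
      funext k; simp [Fin.tail]
    rw [map_mul, mul_mulVec', S.π_ψ, ht, mulVec_zero, S.π_rR, Fin.tail_cons, dotProduct_zero,
      Pi.single_zero, add_zero]
    funext k; induction k using Fin.cases <;> simp
  have hW := S.π_w (neg_ne_zero.2 (one_ne_zero (α := K)))
  rcases hcell with ⟨c, b, h, hb, hh, rfl⟩ | ⟨g, h, hh, rfl⟩
  · have e := hfix (Pi.single 0 1)
    rw [map_mul, map_mul, mul_mulVec', hH hh, mul_mulVec'] at e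
    have hD : (S.π (S.D b)).1 *ᵥ Pi.single 0 (1 : K) = Pi.single 0 b := by
      rw [D, map_mul, mul_mulVec', W, hW.1, (S.π_w hb).2]
      simp
    rw [hD, S.π_cC] at e
    have hb1 : b = 1 := by simpa using congrFun e 0
    have hc : c = 0 := by
      funext k
      have := congrFun e k.succ
      simpa [hb1] using this
    subst hb1 hc
    rw [S.D_one, S.cC_zero, one_mul, one_mul] at h1 hfix ⊢
    obtain ⟨r, g, rfl⟩ := hh
    have key : ∀ v : Fin m → K, g.1 *ᵥ v = v ∧ r ⬝ᵥ v = 0 := by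
      intro v
      have e := hfix (Fin.cons 0 v)
      rw [map_mul, mul_mulVec', S.π_ψ, Fin.cons_zero, Fin.tail_cons, S.π_rR, Fin.tail_cons] at e
      have e1 : g.1 *ᵥ v = v := by
        funext k; simpa using congrFun e k.succ
      exact ⟨e1, by simpa [e1] using congrFun e 0⟩
    have hg : g = 1 := sl_ext fun v => by
      rw [(key v).1, one_mulVec']
    have hr : r = 0 := dotProduct_eq_zero r fun v => (key v).2
    rw [hg, hr, map_one, S.rR_zero, one_mul]
  · exfalso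
    have e := congrFun (hfix (Pi.single 0 1)) 0
    rw [map_mul, map_mul, mul_mulVec', hH hh, mul_mulVec', W, hW.1, S.π_ψ, Fin.cons_zero] at e
    simp [S.za] at e

end Setup

/-- the Steinberg relations define `SL_n` over a finite field -/
theorem exists_hom_aux.{u, v} {K : Type u} [Field K] [Finite K] :
    ∀ {n : ℕ}, 3 ≤ n → ∀ {X : Type (max u v)} [Group X] {x : Fin n → Fin n → K → X}, Rel x →
    ∃ φ : SpecialLinearGroup (Fin n) K →* X, ∀ i j, i ≠ j → ∀ t, φ (tv i j t) = x i j t := by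
  intro n
  induction n with
  | zero => intro h; omega
  | succ m ih =>
    intro hn X _ x hx
    let y : Fin (m + 1) → Fin (m + 1) → K → SpecialLinearGroup (Fin (m + 1)) K × X :=
      fun i j t => (tv i j t, x i j t)
    have hy : Rel y :=
      ⟨fun h t u => Prod.ext (rel_tv.add h t u) (hx.add h t u),
        fun h h' a b t u => Prod.ext (rel_tv.comm h h' a b t u).eq (hx.comm h h' a b t u).eq,
        fun h h' a t u => Prod.ext (rel_tv.prod h h' a t u) (hx.prod h h' a t u)⟩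
    let y' : Fin m → Fin m → K → SpecialLinearGroup (Fin (m + 1)) K × X :=
      fun i j t => y i.succ j.succ t
    have hs : ∀ {i j : Fin m}, i ≠ j → i.succ ≠ j.succ := fun h e => h (Fin.succ_injective _ e)
    have hy' : Rel y' :=
      ⟨fun h t u => hy.add (hs h) t u,
        fun h h' a b t u => hy.comm (hs h) (hs h') (hs a) (hs b) t u,
        fun h h' a t u => hy.prod (hs h) (hs h') (hs a) t u⟩
    obtain ⟨ψ, hψ⟩ : ∃ ψ : SpecialLinearGroup (Fin m) K →* SpecialLinearGroup (Fin (m + 1)) K × X,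
        ∀ i j, i ≠ j → ∀ t, ψ (tv i j t) = y' i j t := by
      rcases eq_or_ne m 2 with rfl | hm
      · obtain ⟨φ, h1, h2⟩ := hy.exists_sl2 (n := 3) le_rfl
          (show (1 : Fin 3) ≠ 2 by decide)
        refine ⟨φ, fun i j h t => ?_⟩
        fin_cases i <;> fin_cases j
        exacts [absurd rfl h, h1 t, h2 t, absurd rfl h]
      · exact ih (by omega) hy'
    let S : Setup K m (SpecialLinearGroup (Fin (m + 1)) K × X) :=
      ⟨y, hy, by omega, MonoidHom.fst _ _, fun i j h t => rfl, ψ, hψ⟩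
    let G : Subgroup (SpecialLinearGroup (Fin (m + 1)) K × X) :=
      Subgroup.closure {z | ∃ i j t, i ≠ j ∧ y i j t = z}
    let f : G →* SpecialLinearGroup (Fin (m + 1)) K := (MonoidHom.fst _ _).comp G.subtype
    have hf : Function.Bijective f := by
      refine ⟨(injective_iff_map_eq_one f).2 fun z hz => Subtype.ext (S.ker_trivial z.2 hz),
        MonoidHom.range_eq_top.1 (CfsgLib.Classical.eq_top_of_transvection_mem _ fun i j h t =>
          ⟨⟨y i j t, Subgroup.subset_closure ⟨i, j, t, h, rfl⟩⟩, tv_eq h t⟩)⟩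
    let e := MulEquiv.ofBijective f hf
    refine ⟨(MonoidHom.snd _ _).comp (G.subtype.comp e.symm.toMonoidHom), fun i j h t => ?_⟩
    have : e.symm (tv i j t) = ⟨y i j t, Subgroup.subset_closure ⟨i, j, t, h, rfl⟩⟩ :=
      e.injective ((e.apply_symm_apply _).trans rfl)
    simp only [MonoidHom.comp_apply, MulEquiv.coe_toMonoidHom, this]
    rfl

theorem exists_hom.{u, v} {K : Type u} [Field K] [Finite K] {n : ℕ} (hn : 3 ≤ n) {X : Type v}
    [Group X] {x : Fin n → Fin n → K → X} (hx : Rel x) :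
    ∃ φ : SpecialLinearGroup (Fin n) K →* X, ∀ i j, i ≠ j → ∀ t, φ (tv i j t) = x i j t := by
  let e : ULift.{u} X ≃* X := MulEquiv.ulift
  obtain ⟨φ, hφ⟩ := exists_hom_aux.{u, v} hn (X := ULift.{u} X)
    (x := fun i j t => e.symm (x i j t))
    ⟨fun h t u => by rw [← map_mul, hx.add h],
      fun h h' a b t u => (hx.comm h h' a b t u).map e.symm,
      fun h h' a t u => by rw [← map_commutatorElement, hx.prod h h' a]⟩
  exact ⟨e.toMonoidHom.comp φ, fun i j h t => by simp [hφ i j h t]⟩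

end CfsgLib.StSL
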