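import Cfsg.Agent.Lib.Classical.SLGen
import Cfsg.Agent.S2426

/-!
Steinberg relations for `SL_n`: rank one subgroups and the action of the monomial elements.
-/

set_option autoImplicit false

namespace CfsgLib.StSL

open Matrix
open scoped commutatorElement

variable {K : Type*} [Field K] {n : ℕ} {X : Type*} [Group X]

/-- elementary transvection, with the value `1` on the diagonal -/
def tv (i j : Fin n) (t : K) : SpecialLinearGroup (Fin n) K :=
  if h : i ≠ j then SpecialLinearGroup.transvection h t else 1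

theorem tv_eq {i j : Fin n} (h : i ≠ j) (t : K) : tv i j t = SpecialLinearGroup.transvection h t :=
  dif_pos h

theorem tv_coe {i j : Fin n} (h : i ≠ j) (t : K) :
    ((tv i j t : SpecialLinearGroup (Fin n) K) : Matrix (Fin n) (Fin n) K) =
      Matrix.transvection i j t := by
  rw [tv_eq h]; rfl

theorem tv_mulVec {i j : Fin n} (h : i ≠ j) (t : K) (v : Fin n → K) :
    (tv i j t).1 *ᵥ v = v + Pi.single i (t * v j) := by
  rw [tv_eq h, CfsgLib.Classical.transvection_mulVec]

theorem vecMul_tv {i j : Fin n} (h : i ≠ j) (t : K) (v : Fin n → K) :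
    v ᵥ* (tv i j t).1 = v + Pi.single j (v i * t) := by
  rw [tv_eq h, SpecialLinearGroup.transvection_coe, Matrix.vecMul_add, Matrix.vecMul_one]
  congr 1
  funext k
  by_cases e : k = j
  · subst e; simp [Matrix.vecMul, dotProduct, Matrix.single_apply]
  · simp [Matrix.vecMul, dotProduct, Matrix.single_apply, e, Ne.symm e]

theorem sl_ext {g g' : SpecialLinearGroup (Fin n) K} (h : ∀ v, g.1 *ᵥ v = g'.1 *ᵥ v) : g = g' :=
  Subtype.ext (Matrix.ext_iff_mulVec.2 h)

theorem mul_mulVec' (g g' : SpecialLinearGroup (Fin n) K) (v : Fin n → K) :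
    (g * g').1 *ᵥ v = g.1 *ᵥ (g'.1 *ᵥ v) := (mulVec_mulVec v g.1 g'.1).symm

/-- induction along elementary transvections -/
theorem sl_induction [Nontrivial (Fin n)] {P : SpecialLinearGroup (Fin n) K → Prop}
    (htv : ∀ i j : Fin n, i ≠ j → ∀ t, P (tv i j t)) (hmul : ∀ a b, P a → P b → P (a * b))
    (g : SpecialLinearGroup (Fin n) K) : P g := by
  have htv' : ∀ (i j : Fin n) (h : i ≠ j) (t : K), P (SpecialLinearGroup.transvection h t) :=
    fun i j h t => tv_eq h t ▸ htv i j h t
  refine SpecialLinearGroup.diagonal_transvection_induction' P g (fun i j hij c hc => ?_) htv' hmul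
  rw [CfsgLib.Classical.diag2n_decompose hij c hc]
  repeat' apply hmul
  all_goals apply htv'

/-- the Steinberg relations -/
structure Rel (x : Fin n → Fin n → K → X) : Prop where
  add : ∀ {i j : Fin n}, i ≠ j → ∀ t u : K, x i j t * x i j u = x i j (t + u)
  comm : ∀ {i j k l : Fin n}, i ≠ j → k ≠ l → i ≠ l → j ≠ k → ∀ t u : K, Commute (x i j t) (x k l u)
  prod : ∀ {i j l : Fin n}, i ≠ j → j ≠ l → i ≠ l → ∀ t u : K, ⁅x i j t, x j l u⁆ = x i l (t * u)

theorem rel_tv : Rel (tv (K := K) (n := n)) where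
  add {i j} h t u := sl_ext fun v => by
    rw [mul_mulVec', tv_mulVec h, tv_mulVec h, tv_mulVec h]
    funext k
    by_cases e : k = i
    · subst e; simp [h.symm]; ring
    · simp [e]
  comm {i j k l} h h' hil hjk t u := sl_ext fun v => by
    simp only [mul_mulVec', tv_mulVec h, tv_mulVec h',
      Pi.add_apply, Pi.single_eq_of_ne hil.symm, Pi.single_eq_of_ne hjk, add_zero]
    abel
  prod {i j l} h h' hil t u := by
    rw [commutatorElement_def, mul_inv_eq_iff_eq_mul, mul_inv_eq_iff_eq_mul]
    refine sl_ext fun v => ?_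
    simp only [mul_mulVec', tv_mulVec h, tv_mulVec h',
      tv_mulVec hil, Pi.add_apply, Pi.single_eq_of_ne hil.symm, Pi.single_eq_of_ne h'.symm,
      Pi.single_eq_same, add_zero]
    funext k
    by_cases e : k = i
    · subst e; simp [h, h.symm]; ring
    · by_cases e' : k = j
      · subst e'; simp [e]
      · simp [e, e']

/-- the monomial element of a pair of indices -/
def w (x : Fin n → Fin n → K → X) (p q : Fin n) (t : K) : X :=
  x p q t * x q p (-t⁻¹) * x p q t

theorem w_map {Y : Type*} [Group Y] (f : X →* Y) (x : Fin n → Fin n → K → X) (p q : Fin n) (t : K) :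
    f (w x p q t) = w (fun i j s => f (x i j s)) p q t := by simp [w]

namespace Rel

variable {x : Fin n → Fin n → K → X} (R : Rel x)
include R

theorem zero {i j : Fin n} (h : i ≠ j) : x i j 0 = 1 := by
  have := R.add h 0 0
  rw [add_zero] at this
  simpa using this

theorem inv {i j : Fin n} (h : i ≠ j) (t : K) : (x i j t)⁻¹ = x i j (-t) :=
  inv_eq_of_mul_eq_one_right (by rw [R.add h, add_neg_cancel, R.zero h])

theorem push {i j l : Fin n} (h : i ≠ j) (h' : j ≠ l) (hl : i ≠ l) (t u : K) :
    x i j t * x j l u = x i l (t * u) * x j l u * x i j t := by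
  rw [← R.prod h h' hl, commutatorElement_def]; group

theorem pull {i j l : Fin n} (h : i ≠ j) (h' : j ≠ l) (hl : i ≠ l) (t u : K) :
    x j l u * x i j t = x i l (-(t * u)) * x i j t * x j l u := by
  rw [mul_assoc, R.push h h' hl t u, ← mul_assoc, ← mul_assoc, R.add hl, neg_add_cancel, R.zero hl,
    one_mul]

theorem w_inv {p q : Fin n} (h : p ≠ q) (t : K) : (w x p q t)⁻¹ = w x p q (-t) := by
  simp only [w, _root_.mul_inv_rev, R.inv h, R.inv h.symm, inv_neg, neg_neg, mul_assoc]

theorem w_pr {p q r : Fin n} (hpq : p ≠ q) (hpr : p ≠ r) (hqr : q ≠ r) {t : K} (ht : t ≠ 0)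
    (u : K) : w x p q t * x p r u = x q r (-(u / t)) * w x p q t := by
  have c1 : ∀ a b, Commute (x p q a) (x p r b) := fun a b => R.comm hpq hpr hpr hpq.symm a b
  have c2 : Commute (x q r (-(u / t))) (x p r u) := R.comm hqr hpr hqr hpr.symm _ _
  calc w x p q t * x p r u
      = x p q t * (x q p (-t⁻¹) * x p r u) * x p q t := by
        simp only [w, mul_assoc]; rw [(c1 t u).eq]
    _ = x p q t * (x q r (-(u / t)) * x p r u * x q p (-t⁻¹)) * x p q t := by
        rw [R.push hpq.symm hpr hqr, show -t⁻¹ * u = -(u / t) by ring]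
    _ = (x p q t * x q r (-(u / t))) * (x p r u * x q p (-t⁻¹)) * x p q t := by
        simp only [mul_assoc]
    _ = x p r (-u) * x q r (-(u / t)) * (x p q t * x p r u) * x q p (-t⁻¹) * x p q t := by
        rw [R.push hpq hqr hpr, show t * -(u / t) = -u by field_simp]
        simp only [mul_assoc]
    _ = x p r (-u) * (x q r (-(u / t)) * x p r u) * x p q t * x q p (-t⁻¹) * x p q t := by
        rw [(c1 t u).eq]; simp only [mul_assoc]
    _ = _ := by
        rw [c2.eq, ← mul_assoc (x p r (-u)), R.add hpr, neg_add_cancel, R.zero hpr, one_mul]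
        simp only [w, mul_assoc]

theorem w_rq {p q r : Fin n} (hpq : p ≠ q) (hpr : p ≠ r) (hqr : q ≠ r) {t : K} (ht : t ≠ 0)
    (u : K) : w x p q t * x r q u = x r p (u / t) * w x p q t := by
  have c1 : ∀ a b, Commute (x p q a) (x r q b) := fun a b => R.comm hpq hqr.symm hpq hqr a b
  have c2 : Commute (x r p (u / t)) (x r q (-u)) :=
    R.comm hpr.symm hqr.symm hqr.symm hpr _ _
  calc w x p q t * x r q u
      = x p q t * (x q p (-t⁻¹) * x r q u) * x p q t := by
        simp only [w, mul_assoc]; rw [(c1 t u).eq]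
    _ = x p q t * (x r p (u / t) * x r q u * x q p (-t⁻¹)) * x p q t := by
        rw [R.pull hqr.symm hpq.symm hpr.symm, show -(u * -t⁻¹) = u / t by ring]
    _ = (x p q t * x r p (u / t)) * (x r q u * x q p (-t⁻¹)) * x p q t := by
        simp only [mul_assoc]
    _ = x r q (-u) * x r p (u / t) * (x p q t * x r q u) * x q p (-t⁻¹) * x p q t := by
        rw [R.pull hpr.symm hpq hqr.symm, show -(u / t * t) = -u by field_simp]
        simp only [mul_assoc]
    _ = x r p (u / t) * (x r q (-u) * x r q u) * x p q t * x q p (-t⁻¹) * x p q t := by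
        rw [(c1 t u).eq, ← c2.eq]; simp only [mul_assoc]
    _ = _ := by
        rw [R.add hqr.symm, neg_add_cancel, R.zero hqr.symm, mul_one]
        simp only [w, mul_assoc]

theorem w_qr {p q r : Fin n} (hpq : p ≠ q) (hpr : p ≠ r) (hqr : q ≠ r) {t : K} (ht : t ≠ 0)
    (u : K) : w x p q t * x q r u = x p r (t * u) * w x p q t := by
  have h := R.w_pr hpq hpr hqr (neg_ne_zero.2 ht) (t * u)
  rw [show -(t * u / -t) = u by field_simp, ← R.w_inv hpq, inv_mul_eq_iff_eq_mul,
    ← mul_assoc, eq_mul_inv_iff_mul_eq] at h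
  exact h.symm

theorem w_rp {p q r : Fin n} (hpq : p ≠ q) (hpr : p ≠ r) (hqr : q ≠ r) {t : K} (ht : t ≠ 0)
    (u : K) : w x p q t * x r p u = x r q (-(t * u)) * w x p q t := by
  have h := R.w_rq hpq hpr hqr (neg_ne_zero.2 ht) (-(t * u))
  rw [show -(t * u) / -t = u by field_simp, ← R.w_inv hpq, inv_mul_eq_iff_eq_mul,
    ← mul_assoc, eq_mul_inv_iff_mul_eq] at h
  exact h.symm

theorem conj_pair {p q r : Fin n} (hpq : p ≠ q) (hpr : p ≠ r) (hqr : q ≠ r) {t : K} (ht : t ≠ 0)
    (u : K) : w x p q t * x p q u * (w x p q t)⁻¹ = x q p (-(t⁻¹ ^ 2 * u)) := by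
  have e1 : w x p q t * x p r u * (w x p q t)⁻¹ = x q r (-(u / t)) := by
    rw [R.w_pr hpq hpr hqr ht, mul_inv_cancel_right]
  have e2 : w x p q t * x r q 1 * (w x p q t)⁻¹ = x r p (1 / t) := by
    rw [R.w_rq hpq hpr hqr ht, mul_inv_cancel_right]
  rw [← mul_one u, ← R.prod hpr hqr.symm hpq u 1, mul_one,
    ← MulAut.conj_apply, map_commutatorElement, MulAut.conj_apply, MulAut.conj_apply, e1, e2,
    R.prod hqr hpr.symm hpq.symm]
  congr 1
  ring

theorem exists_sl2 [Finite K] (hn : 3 ≤ n) {p q : Fin n} (h : p ≠ q) :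
    ∃ φ : SpecialLinearGroup (Fin 2) K →* X,
      (∀ t, φ (tv 0 1 t) = x p q t) ∧ ∀ t, φ (tv 1 0 t) = x q p t := by
  obtain ⟨r, hpr, hqr⟩ : ∃ r : Fin n, p ≠ r ∧ q ≠ r := by
    obtain ⟨r, hr⟩ := Finset.exists_mem_notMem_of_card_lt_card
      (s := ({p, q} : Finset (Fin n))) (t := Finset.univ)
      ((Finset.card_le_two).trans_lt (by simp; omega))
    simp only [Finset.mem_univ, Finset.mem_insert, Finset.mem_singleton, true_and, not_or] at hr
    exact ⟨r, Ne.symm hr.1, Ne.symm hr.2⟩
  obtain ⟨e, he1, he2⟩ := Cfsg.Agent.S2426.result (K := K)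
  let f : Bool × K → X := fun a => if a.1 then x p q a.2 else x q p a.2
  let ψ := PresentedGroup.toGroup (f := f)
    (rels := {g : FreeGroup (Bool × K) | ∃ (b : Bool) (t u : K), g = FreeGroup.of (b, t) * FreeGroup.of (b, u) * (FreeGroup.of (b, t + u))⁻¹} ∪
      {g | ∃ (b : Bool) (t u : K), t ≠ 0 ∧
        g = (FreeGroup.of (b, t) * FreeGroup.of (!b, -t⁻¹) * FreeGroup.of (b, t)) * FreeGroup.of (b, u) *
              (FreeGroup.of (b, t) * FreeGroup.of (!b, -t⁻¹) * FreeGroup.of (b, t))⁻¹ * (FreeGroup.of (!b, -(t⁻¹ ^ 2 * u)))⁻¹})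
    (by
      rintro g (⟨b, t, u, rfl⟩ | ⟨b, t, u, ht, rfl⟩)
      · simp only [map_mul, map_inv, FreeGroup.lift_apply_of, mul_inv_eq_one]
        cases b
        · exact R.add h.symm t u
        · exact R.add h t u
      · simp only [map_mul, map_inv, FreeGroup.lift_apply_of, mul_inv_eq_one]
        cases b
        · exact R.conj_pair h.symm hqr hpr ht u
        · exact R.conj_pair h hpr hqr ht u)
  refine ⟨ψ.comp e.symm.toMonoidHom, fun t => ?_, fun t => ?_⟩
  · have : tv 0 1 t = e (PresentedGroup.of (true, t)) := by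
      refine Subtype.ext ?_
      rw [he1, tv_coe (by decide)]
      ext i j
      fin_cases i <;> fin_cases j <;> simp [Matrix.transvection, Matrix.single_apply]
    rw [MonoidHom.comp_apply, MulEquiv.coe_toMonoidHom, this, e.symm_apply_apply]
    exact PresentedGroup.toGroup.of _
  · have : tv 1 0 t = e (PresentedGroup.of (false, t)) := by
      refine Subtype.ext ?_
      rw [he2, tv_coe (by decide)]
      ext i j
      fin_cases i <;> fin_cases j <;> simp [Matrix.transvection, Matrix.single_apply]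
    rw [MonoidHom.comp_apply, MulEquiv.coe_toMonoidHom, this, e.symm_apply_apply]
    exact PresentedGroup.toGroup.of _

end Rel

end CfsgLib.StSL
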